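import Groth.Agent.Matlis6.Local
import Groth.Agent.Matlis6.Recognition
import Groth.Agent.Matlis6.CompletionNoetherian
import Mathlib.Algebra.Module.LocalizedModule.Submodule
import Mathlib.RingTheory.Artinian.Module
import Mathlib.RingTheory.Localization.AtPrime.Basic
import Mathlib.Algebra.CharP.Frobenius

/-! A locally nilpotent Frobenius semilinear map on a cofinite module is nilpotent. -/

universe u

namespace Groth.Agent.HSL15

open Groth.Agent.Matlis6

section Comm

variable {A : Type u} [CommRing A] {m : Ideal A}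

/-- the dual of any module is a module over the completion -/
@[reducible] noncomputable def dualModule {E : Type u} [AddCommGroup E] [Module A E]
    (hT : LocCoh.IsPowerTorsion m E) (M : Type u) [AddCommGroup M] [Module A M] :
    Module (AdicCompletion m A) (M →ₗ[A] E) where
  smul α f := (act hT α).comp f
  one_smul f := LinearMap.ext fun x => by
    show act hT 1 (f x) = f x
    rw [map_one]; rfl
  mul_smul α β f := LinearMap.ext fun x => by
    show act hT (α * β) (f x) = act hT α (act hT β (f x))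
    rw [map_mul]; rfl
  smul_zero α := LinearMap.ext fun x => by
    show act hT α 0 = 0
    rw [map_zero]
  smul_add α f g := LinearMap.ext fun x => by
    show act hT α (f x + g x) = act hT α (f x) + act hT α (g x)
    rw [map_add]
  add_smul α β f := LinearMap.ext fun x => by
    show act hT (α + β) (f x) = act hT α (f x) + act hT β (f x)
    rw [map_add]; rfl
  zero_smul f := LinearMap.ext fun x => by
    show act hT 0 (f x) = 0
    rw [map_zero]; rfl

theorem act_comm {M N : Type u} [AddCommGroup M] [Module A M] [AddCommGroup N] [Module A N]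
    (hM : LocCoh.IsPowerTorsion m M) (hN : LocCoh.IsPowerTorsion m N) (f : M →ₗ[A] N)
    (α : AdicCompletion m A) (x : M) : f (act hM α x) = act hN α (f x) := by
  obtain ⟨i, hi⟩ := hM x
  obtain ⟨r, hr⟩ := exists_repr α i
  rw [act_eq hM α x hi hr, act_eq hN α (f x) (fun a ha => by rw [← map_smul, hi a ha, map_zero]) hr,
    map_smul]

theorem act_frob (p : ℕ) [Fact p.Prime] [CharP A p] {M : Type u} [AddCommGroup M] [Module A M]
    (hM : LocCoh.IsPowerTorsion m M) (φ : M →ₛₗ[frobenius A p] M) (α : AdicCompletion m A) (x : M) :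
    φ (act hM α x) = act hM (α ^ p) (φ x) := by
  obtain ⟨i, hi⟩ := hM x
  obtain ⟨j, hj⟩ := hM (φ x)
  obtain ⟨r, hr⟩ := exists_repr α (max i j)
  rw [act_eq hM α x (pow_kill_mono (le_max_left i j) hi) hr,
    act_eq hM (α ^ p) (φ x) (pow_kill_mono (le_max_right i j) hj) (r := r ^ p)
      (by rw [map_pow, hr, map_pow]),
    map_smulₛₗ, frobenius_def]

end Comm

theorem not_infinite_chain {R : Type u} [CommRing R] [IsNoetherianRing R] {D : Type u} [AddCommGroup D]
    [Module R D] [Module.Finite R D] (J : Ideal R) (hJtop : J ≠ ⊤) {s : ℕ}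
    (hkill : ∀ α ∈ J ^ s, ∀ f : D, α • f = 0) (Dn : ℕ → Submodule R D) (hanti : Antitone Dn)
    (hann : ∀ n α, (∀ f ∈ Dn n, α • f ∈ Dn (n + 1)) → α ∈ J) : False := by
  classical
  obtain ⟨⟨q, hq⟩⟩ := J.nonempty_minimalPrimes hJtop
  haveI : q.IsPrime := hq.1.1
  -- each step survives at `q`
  have hex : ∀ n, ∃ f ∈ Dn n, ∀ t ∉ q, t • f ∉ Dn (n + 1) := by
    intro n
    by_contra h
    push Not at h
    choose t htq ht using h
    obtain ⟨S, hS⟩ := IsNoetherian.noetherian (Dn n)
    have hSD : ∀ f ∈ S, f ∈ Dn n := fun f hf => hS ▸ Submodule.subset_span hf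
    let T : R := ∏ f : S, t f.1 (hSD f.1 f.2)
    have hT : T ∉ q := by
      intro hT
      obtain ⟨f, -, hf⟩ := (Ideal.IsPrime.prod_mem_iff).1 hT
      exact htq _ _ hf
    refine hT (hq.1.2 (hann n T fun f hf => ?_))
    have hle : Submodule.span R (S : Set D) ≤ (Dn (n + 1)).comap (LinearMap.lsmul R D T) := by
      refine Submodule.span_le.2 fun g hg => ?_
      show T • g ∈ Dn (n + 1)
      obtain ⟨c, hc⟩ : t g (hSD g hg) ∣ T := Finset.dvd_prod_of_mem (fun f : S => t f.1 (hSD f.1 f.2))
        (Finset.mem_univ ⟨g, hg⟩)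
      rw [hc, mul_comm, mul_smul]
      exact Submodule.smul_mem _ _ (ht g (hSD g hg))
    exact hle (hS ▸ hf)
  -- the localisation is Artinian
  let Rq := Localization.AtPrime q
  let L := LocalizedModule q.primeCompl D
  let mkL := LocalizedModule.mkLinearMap q.primeCompl D
  let 𝔞 : Ideal Rq := (J ^ s).map (algebraMap R Rq)
  haveI : Ring.KrullDimLE 0 (Rq ⧸ 𝔞) := by
    rw [Ring.krullDimLE_zero_iff]
    intro P hP
    haveI := hP
    let P' := P.comap (Ideal.Quotient.mk 𝔞)
    have hle : 𝔞 ≤ P' := fun a ha => by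
      show Ideal.Quotient.mk 𝔞 a ∈ P
      rw [Ideal.Quotient.eq_zero_iff_mem.2 ha]; exact P.zero_mem
    have h1 : J ≤ P'.comap (algebraMap R Rq) :=
      (inferInstance : (P'.comap (algebraMap R Rq)).IsPrime).le_of_pow_le (Ideal.map_le_iff_le_comap.1 hle)
    have h2 : P'.comap (algebraMap R Rq) ≤ q := by
      intro a ha
      by_contra haq
      exact Ideal.IsPrime.ne_top inferInstance (P'.eq_top_of_isUnit_mem ha
        (IsLocalization.map_units Rq (⟨a, haq⟩ : q.primeCompl)))
    have h3 : P'.comap (algebraMap R Rq) = q := le_antisymm h2 (hq.2 ⟨inferInstance, h1⟩ h2)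
    have h4 : P' = IsLocalRing.maximalIdeal Rq := by
      rw [← IsLocalization.map_comap q.primeCompl Rq P']
      show Ideal.map (algebraMap R Rq) (P'.comap (algebraMap R Rq)) = _
      rw [h3, Localization.AtPrime.map_eq_maximalIdeal]
    rw [← Ideal.map_comap_of_surjective _ Ideal.Quotient.mk_surjective P]
    haveI : P'.IsMaximal := h4 ▸ inferInstance
    exact Ideal.IsMaximal.map_of_surjective_of_ker_le (m := P') Ideal.Quotient.mk_surjective
      (by rw [Ideal.mk_ker]; exact hle)
  haveI : IsNoetherianRing Rq := IsLocalization.isNoetherianRing q.primeCompl Rq inferInstance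
  haveI : IsArtinianRing (Rq ⧸ 𝔞) := IsNoetherianRing.isArtinianRing_of_krullDimLE_zero
  haveI : IsArtinian Rq (Rq ⧸ 𝔞) := isArtinian_of_surjective_algebraMap (R := Rq ⧸ 𝔞) (S := Rq) (M := Rq ⧸ 𝔞)
    (by rw [Ideal.Quotient.algebraMap_eq]; exact Ideal.Quotient.mk_surjective)
  haveI : IsArtinian Rq L := by
    obtain ⟨N, g, hg⟩ := Module.Finite.exists_fin' Rq L
    have hk : ∀ a ∈ 𝔞, ∀ y : L, a • y = 0 := by
      intro a ha y
      have h : 𝔞 ≤ LinearMap.ker (LinearMap.toSpanSingleton Rq L y) := Ideal.span_le.2 (by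
        rintro _ ⟨α, hα, rfl⟩
        show algebraMap R Rq α • y = 0
        rw [algebraMap_smul]
        induction y using LocalizedModule.induction_on with
        | h f c => rw [LocalizedModule.smul'_mk, hkill α hα, LocalizedModule.zero_mk])
      exact h ha
    let F : (Fin N → Rq ⧸ 𝔞) →ₗ[Rq] L := ∑ i, ((𝔞 : Submodule Rq Rq).liftQ
      (LinearMap.toSpanSingleton Rq L (g (Pi.single i 1))) (fun a ha => hk a ha _)).comp (LinearMap.proj i)
    refine isArtinian_of_surjective _ F fun y => ?_
    obtain ⟨v, rfl⟩ := hg y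
    refine ⟨fun i => Ideal.Quotient.mk 𝔞 (v i), ?_⟩
    conv_rhs => rw [pi_eq_sum_univ' v, map_sum]
    rw [LinearMap.sum_apply]
    exact Finset.sum_congr rfl fun i _ => (map_smul g (v i) (Pi.single i 1)).symm
  let P : ℕ →o (Submodule Rq L)ᵒᵈ := ⟨fun n => OrderDual.toDual ((Dn n).localized' Rq q.primeCompl mkL),
    fun a b hab => by
      show (Dn b).localized' Rq q.primeCompl mkL ≤ (Dn a).localized' Rq q.primeCompl mkL
      intro y hy
      rw [Submodule.mem_localized'] at hy ⊢
      obtain ⟨f, hf, c, hc⟩ := hy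
      exact ⟨f, hanti hab hf, c, hc⟩⟩
  obtain ⟨n, hn⟩ := IsArtinian.monotone_stabilizes P
  obtain ⟨f, hf, hfq⟩ := hex n
  have h1 : mkL f ∈ (Dn n).localized' Rq q.primeCompl mkL :=
    (Submodule.mem_localized' _ _ _ _ _).2 ⟨f, hf, 1, IsLocalizedModule.mk'_one _ _ _⟩
  have h2 : (Dn n).localized' Rq q.primeCompl mkL = (Dn (n + 1)).localized' Rq q.primeCompl mkL :=
    OrderDual.toDual.injective (hn (n + 1) (Nat.le_succ n))
  rw [h2, Submodule.mem_localized'] at h1
  obtain ⟨g, hg, c, hc⟩ := h1
  rw [← IsLocalizedModule.mk'_one q.primeCompl mkL f, IsLocalizedModule.mk'_eq_mk'_iff] at hc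
  obtain ⟨t, ht⟩ := hc
  simp only [Submonoid.smul_def, OneMemClass.coe_one, one_smul] at ht
  refine hfq ((t : R) * c) (fun h => ?_) ?_
  · rcases (inferInstance : q.IsPrime).mem_or_mem h with h | h
    · exact t.2 h
    · exact c.2 h
  · rw [mul_smul]
    first
      | (rw [ht]; exact Submodule.smul_mem _ _ hg)
      | (rw [← ht]; exact Submodule.smul_mem _ _ hg)

theorem nilpotent_core (p : ℕ) [Fact p.Prime] {A : Type u} [CommRing A] [IsNoetherianRing A]
    [IsLocalRing A] [CharP A p] {E : Type u} [AddCommGroup E] [Module A E]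
    (hE : IsHullAt (IsLocalRing.maximalIdeal A) E) {M : Type u} [AddCommGroup M] [Module A M]
    (hT : LocCoh.IsPowerTorsion (IsLocalRing.maximalIdeal A) M) {N : ℕ} (ι : M →ₗ[A] (Fin N → E))
    (hι : Function.Injective ι) (φ : M →ₛₗ[frobenius A p] M)
    (hloc : ∀ x : M, ∃ n : ℕ, (⇑φ)^[n] x = 0) : ∃ n : ℕ, ∀ x : M, (⇑φ)^[n] x = 0 := by
  classical
  let R := AdicCompletion (IsLocalRing.maximalIdeal A) A
  haveI : IsNoetherianRing R := isNoetherianRing_adicCompletion _
  let σ : R → M → M := fun α x => act hT α x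
  have hit0 : ∀ n, (⇑φ)^[n] (0 : M) = 0 := fun n => Function.iterate_fixed (map_zero φ) n
  have hmono : ∀ {n n' : ℕ}, n ≤ n' → ∀ x, (⇑φ)^[n] x = 0 → (⇑φ)^[n'] x = 0 := by
    intro n n' h x hx
    obtain ⟨c, rfl⟩ := Nat.exists_eq_add_of_le h
    rw [add_comm, Function.iterate_add_apply, hx, hit0]
  let K : ℕ → Submodule A M := fun n =>
    { carrier := {x | (⇑φ)^[n] x = 0}
      add_mem' := fun {a b} ha hb => by
        have : ∀ j, (⇑φ)^[j] (a + b) = (⇑φ)^[j] a + (⇑φ)^[j] b := fun j => by
          induction j with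
          | zero => rfl
          | succ j ih => rw [Function.iterate_succ_apply', Function.iterate_succ_apply',
              Function.iterate_succ_apply', ih, map_add]
        show _ = _
        rw [this n, ha, hb, add_zero]
      zero_mem' := hit0 n
      smul_mem' := fun c x hx => by
        have : ∀ j, ∃ d : A, (⇑φ)^[j] (c • x) = d • (⇑φ)^[j] x := fun j => by
          induction j with
          | zero => exact ⟨c, rfl⟩
          | succ j ih =>
            obtain ⟨d, hd⟩ := ih
            exact ⟨d ^ p, by rw [Function.iterate_succ_apply', Function.iterate_succ_apply', hd,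
              map_smulₛₗ, frobenius_def]⟩
        obtain ⟨d, hd⟩ := this n
        show _ = _
        rw [hd, hx, smul_zero] }
  have hKmem : ∀ n x, x ∈ K n ↔ (⇑φ)^[n] x = 0 := fun n x => Iff.rfl
  have hσφ : ∀ α x, φ (σ α x) = σ (α ^ p) (φ x) := fun α x => act_frob p hT φ α x
  have hσmul : ∀ α β x, σ (α * β) x = σ α (σ β x) := fun α β x => by
    show act hT (α * β) x = _
    rw [map_mul]; rfl
  have hσadd : ∀ α β x, σ (α + β) x = σ α x + σ β x := fun α β x => by
    show act hT (α + β) x = _
    rw [map_add]; rfl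
  have hσzero : ∀ x, σ 0 x = 0 := fun x => by
    show act hT 0 x = 0
    rw [map_zero]; rfl
  have hσK : ∀ n α x, x ∈ K n → σ α x ∈ K n := by
    intro n
    induction n with
    | zero =>
        intro α x hx
        have : x = 0 := hx
        show σ α x = 0
        rw [this]; exact map_zero (act hT α)
    | succ n ih =>
        intro α x hx
        rw [hKmem, Function.iterate_succ_apply] at hx ⊢
        rw [hσφ]
        exact ih _ _ hx
  let J : ℕ → Ideal R := fun n =>
    { carrier := {α | ∀ x ∈ K (n + 1), σ α x ∈ K n}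
      add_mem' := fun {a b} ha hb x hx => by rw [hσadd]; exact (K n).add_mem (ha x hx) (hb x hx)
      zero_mem' := fun x _ => by rw [hσzero]; exact (K n).zero_mem
      smul_mem' := fun c a ha x hx => by
        rw [smul_eq_mul, hσmul]; exact hσK n c _ (ha x hx) }
  have hstep : ∀ n α, α ^ p ∈ J n → α ∈ J (n + 1) := by
    intro n α hα x hx
    rw [hKmem, Function.iterate_succ_apply] at hx ⊢
    rw [hσφ]
    exact hα _ hx
  have hJmono : Monotone J := monotone_nat_of_le_succ fun n α hα =>
    hstep n α (Ideal.pow_mem_of_mem _ hα p (Fact.out : p.Prime).pos)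
  obtain ⟨n0, hn0⟩ := monotone_stabilizes_iff_noetherian.2 inferInstance ⟨J, hJmono⟩
  replace hn0 : ∀ n, n0 ≤ n → J n = J n0 := fun n hn => (hn0 n hn).symm
  have hrad : ∀ α, α ^ p ∈ J n0 → α ∈ J n0 := fun α hα => hn0 (n0 + 1) (Nat.le_succ _) ▸ hstep n0 α hα
  -- squares of elements of `J` push `M` into `K n0`
  have hsq : ∀ α ∈ J n0, ∀ x : M, σ (α * α) x ∈ K n0 := by
    intro α hα x
    suffices h : ∀ c, ∀ y ∈ K (n0 + c), σ (α * α) y ∈ K n0 by
      obtain ⟨n, hn⟩ := hloc x
      exact h n x (hmono (Nat.le_add_left n n0) x hn)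
    intro c
    induction c with
    | zero => exact fun y hy => hσK n0 _ y hy
    | succ c ih =>
      intro y hy
      have h1 : σ α y ∈ K (n0 + 1) := by
        rw [hKmem, Function.iterate_succ_apply, hσφ]
        obtain ⟨e, he⟩ := Nat.exists_eq_add_of_le (Fact.out : p.Prime).two_le
        rw [show α ^ p = α ^ e * (α * α) by rw [he, pow_add]; ring, hσmul]
        refine hσK n0 _ _ (ih (φ y) ?_)
        rw [hKmem, ← Function.iterate_succ_apply]
        exact hy
      rw [hσmul]
      exact hα _ h1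
  by_cases htop : J n0 = ⊤
  · refine ⟨n0, fun x => ?_⟩
    have := hsq 1 (htop ▸ trivial) x
    rw [one_mul] at this
    have h1 : σ 1 x = x := by show act hT 1 x = x; rw [map_one]; rfl
    rwa [h1] at this
  exfalso
  let hET := hE.isPowerTorsion
  letI : Module R (M →ₗ[A] E) := dualModule hET M
  have hsmul : ∀ (α : R) (f : M →ₗ[A] E) x, (α • f) x = f (σ α x) := fun α f x =>
    (act_comm hT hET f α x).symm
  haveI : Module.Finite R (M →ₗ[A] E) := by
    refine ⟨⟨Finset.univ.image fun i => (LinearMap.proj i).comp ι, ?_⟩⟩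
    rw [eq_top_iff]
    intro f _
    obtain ⟨g, hg⟩ := (Module.Baer.of_injective hE.inj).extension_property ι hι f
    choose α hα using fun i => hE.act_bijective.2 (g.comp (LinearMap.single A (fun _ : Fin N => E) i))
    have : f = ∑ i, α i • (LinearMap.proj i).comp ι := by
      refine LinearMap.ext fun x => ?_
      rw [← hg, LinearMap.sum_apply]
      show g (ι x) = ∑ i, act hET (α i) (ι x i)
      rw [← Finset.univ_sum_single (ι x), map_sum]
      refine Finset.sum_congr rfl fun i _ => ?_
      rw [Finset.univ_sum_single]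
      exact (LinearMap.congr_fun (hα i) (ι x i)).symm
    rw [this]
    exact Submodule.sum_mem _ fun i _ => Submodule.smul_mem _ _ (Submodule.subset_span (by simp))
  let I0 : Ideal R :=
    { carrier := {α | ∀ x, σ α x ∈ K n0}
      add_mem' := fun {a b} ha hb x => by rw [hσadd]; exact (K n0).add_mem (ha x) (hb x)
      zero_mem' := fun x => by rw [hσzero]; exact (K n0).zero_mem
      smul_mem' := fun c a ha x => by rw [smul_eq_mul, hσmul]; exact hσK n0 c _ (ha x) }
  obtain ⟨s, hs⟩ := Ideal.exists_pow_le_of_le_radical_of_fg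
    (show J n0 ≤ I0.radical from fun α hα => ⟨2, by rw [sq]; exact hsq α hα⟩) (IsNoetherian.noetherian _)
  let Dn : ℕ → Submodule R (M →ₗ[A] E) := fun n =>
    { carrier := {f | ∀ x ∈ K (n0 + n), f x = 0}
      add_mem' := fun {a b} ha hb x hx => by rw [LinearMap.add_apply, ha x hx, hb x hx, add_zero]
      zero_mem' := fun x _ => rfl
      smul_mem' := fun c f hf x hx => by
        rw [hsmul]; exact hf _ (hσK _ c x hx) }
  refine not_infinite_chain (R := R) (D := ↥(Dn 0)) (J n0) htop (s := s) ?_
    (fun n => (Dn n).comap (Dn 0).subtype) ?_ ?_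
  · intro α hα f
    refine Subtype.ext (LinearMap.ext fun x => ?_)
    show (α • (f : M →ₗ[A] E)) x = 0
    rw [hsmul]
    exact f.2 _ (hs hα x)
  · intro a b hab f hf x hx
    exact hf x (hmono (by omega) x hx)
  · intro n α hα
    rw [← hn0 (n0 + n) (Nat.le_add_right _ _)]
    intro x hx
    by_contra hne
    have hy : (Submodule.Quotient.mk (σ α x) : M ⧸ K (n0 + n)) ≠ 0 := by
      rwa [Ne, Submodule.Quotient.mk_eq_zero]
    obtain ⟨i, hi⟩ := hT (σ α x)
    obtain ⟨g, hg⟩ := hE.exists_apply_ne_zero_of_pow hy (n := i) (fun a ha => by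
      rw [← Submodule.Quotient.mk_smul, hi a ha]; rfl)
    let f : M →ₗ[A] E := g.comp (K (n0 + n)).mkQ
    have hf : ∀ y ∈ K (n0 + n), f y = 0 := fun y hy => by
      show g (Submodule.Quotient.mk y) = 0
      rw [(Submodule.Quotient.mk_eq_zero _).2 hy, map_zero]
    have hf0 : f ∈ Dn 0 := fun y hy => hf y (hmono (by omega) y hy)
    have h1 : α • f ∈ Dn (n + 1) := hα ⟨f, hf0⟩ hf
    have h2 := h1 x (by rw [← add_assoc]; exact hx)
    rw [hsmul] at h2
    exact hg h2

end Groth.Agent.HSL15
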