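import Groth.Agent.Matlis6.Local
import Mathlib.LinearAlgebra.Dimension.Free

/-! A power torsion module with finite socle embeds in a power of the hull, in any universe. -/

universe u v

namespace Groth.Agent.HSL15

open Groth.Agent.Matlis6

theorem exists_embedding {R : Type u} [CommRing R] [IsLocalRing R] {E : Type u} [AddCommGroup E]
    [Module R E] (hE : IsHullAt (IsLocalRing.maximalIdeal R) E) {M : Type v} [AddCommGroup M] [Module R M]
    (hM : LocCoh.IsPowerTorsion (IsLocalRing.maximalIdeal R) M)
    (hsoc : Module.Finite R ↥(LocCoh.torsionBy (IsLocalRing.maximalIdeal R) M)) :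
    ∃ (n : ℕ) (g : M →ₗ[R] (Fin n → E)), Function.Injective g := by
  set m := IsLocalRing.maximalIdeal R
  haveI : Module.Finite (R ⧸ m) ↥(LocCoh.torsionBy m M) := Module.Finite.of_restrictScalars_finite R _ _
  obtain ⟨e, he, hme, -⟩ := hE.ess
  letI : Field (R ⧸ m) := Ideal.Quotient.field _
  set n := Module.finrank (R ⧸ m) ↥(LocCoh.torsionBy m M) with hn
  refine ⟨n, ?_⟩
  let b := Module.finBasisOfFinrankEq (R ⧸ m) ↥(LocCoh.torsionBy m M) hn.symm
  let i₀ : (R ⧸ m) →ₗ[R] E := Submodule.liftQ m (LinearMap.toSpanSingleton R E e) fun a ha => by simpa using hme a ha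
  have hi₀ : Function.Injective i₀ := by
    rw [injective_iff_map_eq_zero]
    intro q
    induction q using Submodule.Quotient.induction_on with
    | _ r =>
      intro h
      rw [Submodule.Quotient.mk_eq_zero]
      by_contra hr
      obtain ⟨s, hs⟩ := exists_smul_eq_of_isMaximal hme hr
      rw [Submodule.liftQ_apply, LinearMap.toSpanSingleton_apply] at h
      exact he (by rw [← hs, h, smul_zero])
  let g₀ : ↥(LocCoh.torsionBy m M) →ₗ[R] (Fin n → E) :=
    (LinearMap.pi fun i => i₀.comp (LinearMap.proj i)).comp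
      ((b.equivFun : ↥(LocCoh.torsionBy m M) ≃ₗ[R ⧸ m] (Fin n → R ⧸ m)).toLinearMap.restrictScalars R)
  have hg₀ : Function.Injective g₀ := by
    intro x y h
    apply b.equivFun.injective
    funext i
    exact hi₀ (congrFun h i)
  haveI := hE.inj
  obtain ⟨g, hg⟩ := (Module.Baer.of_injective (Q := Fin n → E)
    (Module.Injective.pi (R := R) (M := fun _ : Fin n => E))).extension_property
    (Submodule.subtype _) (Submodule.injective_subtype _) g₀
  refine ⟨g, (injective_iff_map_eq_zero g).2 fun x hx => ?_⟩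
  by_contra hx0
  obtain ⟨k, hk⟩ := hM x
  classical
  have hex : ∃ j, ∀ a ∈ m ^ j, a • x = 0 := ⟨k, hk⟩
  obtain ⟨a, ha, hax⟩ : ∃ a : R, (∀ c ∈ m, c • a • x = 0) ∧ a • x ≠ 0 := by
    cases hj : Nat.find hex with
    | zero => exact absurd (by simpa using (Nat.find_spec hex) 1 (by rw [hj]; simp)) hx0
    | succ j =>
      have := Nat.find_min hex (show j < Nat.find hex by omega)
      push Not at this
      obtain ⟨a, ha, hax⟩ := this
      refine ⟨a, fun c hc => ?_, hax⟩
      rw [smul_smul]
      exact Nat.find_spec hex _ (by rw [hj, pow_succ']; exact Ideal.mul_mem_mul hc ha)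
  have hmem : a • x ∈ LocCoh.torsionBy m M := (Submodule.mem_torsionBySet_iff _ _).2 fun c => ha c c.2
  have h0 : g₀ ⟨a • x, hmem⟩ = 0 := by
    rw [← hg]
    change g (a • x) = 0
    rw [map_smul, hx, smul_zero]
  exact hax (congrArg Subtype.val (hg₀ (h0.trans (map_zero g₀).symm)))

end Groth.Agent.HSL15
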